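import Mathlib
import Cfsg.Agent.Lib.Cores.Nilpotent

/-!
# The wreath product of the dihedral group of order 8 by a group of order 2

A decidable model `Wr` of `D₈ ≀ C₂`, homomorphisms out of it, and the identification with the
Sylow 2-subgroups of the symmetric group of degree eight.
-/

set_option autoImplicit false
set_option linter.style.haveILetI false

namespace Cfsg.Agent.PGroups.WreathD8

open DihedralGroup

/-- The dihedral group of order 8. -/
abbrev D := DihedralGroup 4

/-- A model of `D₈ ≀ C₂`: pairs from the base and a bit for the top. -/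
structure Wr where
  x : D
  y : D
  s : Bool
deriving DecidableEq

namespace Wr

theorem ext' {u v : Wr} (hx : u.x = v.x) (hy : u.y = v.y) (hs : u.s = v.s) : u = v := by
  cases u; cases v; subst hx hy hs; rfl

instance : Mul Wr :=
  ⟨fun u v => ⟨u.x * bif u.s then v.y else v.x, u.y * bif u.s then v.x else v.y, xor u.s v.s⟩⟩

instance : One Wr := ⟨⟨1, 1, false⟩⟩

instance : Inv Wr :=
  ⟨fun u => ⟨(bif u.s then u.y else u.x)⁻¹, (bif u.s then u.x else u.y)⁻¹, u.s⟩⟩

instance : Group Wr where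
  mul_assoc u v w := by
    obtain ⟨a, b, s⟩ := u
    obtain ⟨c, d, t⟩ := v
    obtain ⟨g, h, r⟩ := w
    cases s <;> cases t <;> cases r <;>
      exact ext' (mul_assoc _ _ _) (mul_assoc _ _ _) rfl
  one_mul u := by
    obtain ⟨a, b, s⟩ := u
    exact ext' (one_mul _) (one_mul _) (Bool.false_xor _)
  mul_one u := by
    obtain ⟨a, b, s⟩ := u
    cases s <;> exact ext' (mul_one _) (mul_one _) rfl
  inv_mul_cancel u := by
    obtain ⟨a, b, s⟩ := u
    cases s <;> exact ext' (inv_mul_cancel _) (inv_mul_cancel _) rfl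

/-- The coordinates. -/
def equiv : Wr ≃ D × D × Bool :=
  ⟨fun u => (u.x, u.y, u.s), fun t => ⟨t.1, t.2.1, t.2.2⟩, fun _ => rfl, fun _ => rfl⟩

instance : Fintype Wr := Fintype.ofEquiv _ equiv.symm

theorem nat_card : Nat.card Wr = 128 := by
  rw [Nat.card_congr equiv, Nat.card_prod, Nat.card_prod, DihedralGroup.nat_card,
    Nat.card_eq_fintype_card (α := Bool), Fintype.card_bool]

/-- A reflection of the first factor. -/
def p : Wr := ⟨sr 0, 1, false⟩

/-- The other reflection of the first factor. -/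
def a : Wr := ⟨sr 1, 1, false⟩

/-- A reflection of the second factor. -/
def q : Wr := ⟨1, sr 0, false⟩

/-- The other reflection of the second factor. -/
def b : Wr := ⟨1, sr 1, false⟩

/-- The swap. -/
def t : Wr := ⟨1, 1, true⟩

theorem eq_word : ∀ u : Wr, ∃ i k : Fin 4, ∃ j l m : Fin 2,
    u = (p * a) ^ (i : ℕ) * p ^ (j : ℕ) * ((q * b) ^ (k : ℕ) * q ^ (l : ℕ)) * t ^ (m : ℕ) := by
  decide +kernel

theorem mem_of_gens {K : Subgroup Wr} (hp : p ∈ K) (ha : a ∈ K) (hq : q ∈ K) (hb : b ∈ K)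
    (ht : t ∈ K) (u : Wr) : u ∈ K := by
  obtain ⟨i, k, j, l, m, rfl⟩ := eq_word u
  exact mul_mem (mul_mem (mul_mem (pow_mem (mul_mem hp ha) _) (pow_mem hp _))
    (mul_mem (pow_mem (mul_mem hq hb) _) (pow_mem hq _))) (pow_mem ht _)

theorem hom_ext {G : Type*} [Group G] {f g : Wr →* G} (hp : f p = g p) (ha : f a = g a)
    (ht : f t = g t) : f = g := by
  have hq : t * p * t = q := by decide
  have hb : t * a * t = b := by decide
  refine MonoidHom.ext fun u => ?_
  exact mem_of_gens (K := f.eqLocus g) hp ha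
    (by show f q = g q; rw [← hq, map_mul, map_mul, map_mul, map_mul, hp, ht])
    (by show f b = g b; rw [← hb, map_mul, map_mul, map_mul, map_mul, ha, ht]) ht u

end Wr

section Lift

variable {G : Type*} [Group G]

/-- The map on the dihedral group sending `sr 0, sr 1` to `x, y`. -/
def dMap (x y : G) : D → G
  | r i => (x * y) ^ i.val
  | sr i => x * (x * y) ^ i.val

theorem exists_dihedral_hom {x y : G} (hx : x * x = 1) (hy : y * y = 1)
    (h4 : (x * y) ^ 4 = 1) : ∃ f : D →* G, f (sr 0) = x ∧ f (sr 1) = y := by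
  set ρ := x * y with hρ
  have hmod : ∀ n : ℕ, ρ ^ (n % 4) = ρ ^ n := fun n => by
    conv_rhs => rw [← Nat.mod_add_div n 4, pow_add, pow_mul, h4, one_pow, mul_one]
  have hadd : ∀ i j : ZMod 4, ρ ^ (i + j).val = ρ ^ i.val * ρ ^ j.val := fun i j => by
    rw [ZMod.val_add, hmod, pow_add]
  have hneg : ∀ i : ZMod 4, ρ ^ (-i).val = (ρ ^ i.val)⁻¹ := fun i => by
    refine eq_inv_of_mul_eq_one_left ?_
    rw [← hadd, neg_add_cancel, ZMod.val_zero, pow_zero]
  have hflip : ∀ i : ZMod 4, ρ ^ i.val * x = x * (ρ ^ i.val)⁻¹ := fun i => by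
    have h1 : x * ρ * x⁻¹ = ρ⁻¹ := by
      rw [hρ, inv_eq_of_mul_eq_one_right hx, mul_inv_rev, inv_eq_of_mul_eq_one_right hx,
        inv_eq_of_mul_eq_one_right hy, ← mul_assoc x x y, hx, one_mul]
    have h2 : x * ρ ^ i.val * x⁻¹ = (ρ ^ i.val)⁻¹ := by rw [← conj_pow, h1, inv_pow]
    rw [← h2, inv_eq_of_mul_eq_one_right hx, ← mul_assoc x, ← mul_assoc x, hx, one_mul]
  refine ⟨MonoidHom.mk' (dMap x y) ?_, ?_, ?_⟩
  · rintro (i | i) (j | j)
    · rw [DihedralGroup.r_mul_r]
      exact hadd i j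
    · rw [DihedralGroup.r_mul_sr]
      show x * ρ ^ (j - i).val = ρ ^ i.val * (x * ρ ^ j.val)
      rw [← mul_assoc, hflip, mul_assoc, sub_eq_add_neg, add_comm, hadd, hneg]
    · rw [DihedralGroup.sr_mul_r]
      show x * ρ ^ (i + j).val = x * ρ ^ i.val * ρ ^ j.val
      rw [hadd, mul_assoc]
    · rw [DihedralGroup.sr_mul_sr]
      show ρ ^ (j - i).val = x * ρ ^ i.val * (x * ρ ^ j.val)
      rw [mul_assoc, ← mul_assoc (ρ ^ i.val), hflip, ← mul_assoc x, ← mul_assoc x, hx, one_mul,
        sub_eq_add_neg, add_comm, hadd, hneg]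
  · show x * ρ ^ (0 : ZMod 4).val = x
    rw [ZMod.val_zero, pow_zero, mul_one]
  · show x * ρ ^ (1 : ZMod 4).val = y
    rw [show (1 : ZMod 4).val = 1 from rfl, pow_one, hρ, ← mul_assoc, hx, one_mul]

/-- Homomorphisms out of `Wr`. -/
theorem exists_wreath_hom {x y τ : G} (hx : x * x = 1) (hy : y * y = 1) (h4 : (x * y) ^ 4 = 1)
    (hτ : τ * τ = 1) (hxx : Commute x (τ * x * τ)) (hxy : Commute x (τ * y * τ))
    (hyx : Commute y (τ * x * τ)) (hyy : Commute y (τ * y * τ)) :
    ∃ f : Wr →* G, f Wr.p = x ∧ f Wr.a = y ∧ f Wr.t = τ := by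
  obtain ⟨f, hf0, hf1⟩ := exists_dihedral_hom hx hy h4
  have hti : τ⁻¹ = τ := inv_eq_of_mul_eq_one_right hτ
  have hcd : ∀ d : D, ∃ i : Fin 4, ∃ j : Fin 2,
      d = (sr 0 * sr 1) ^ (i : ℕ) * (sr 0) ^ (j : ℕ) := by decide
  let f' : D →* G := (MulAut.conj τ).toMonoidHom.comp f
  have hf' : ∀ d, f' d = τ * f d * τ := fun d => by
    show τ * f d * τ⁻¹ = _
    rw [hti]
  have hcomm : ∀ d e : D, Commute (f d) (f' e) := by
    intro d e
    obtain ⟨i, j, rfl⟩ := hcd d
    obtain ⟨k, l, rfl⟩ := hcd e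
    have hc : ∀ u v : D, (u = sr 0 ∨ u = sr 1) → (v = sr 0 ∨ v = sr 1) → Commute (f u) (f' v) := by
      rintro u v (rfl | rfl) (rfl | rfl) <;> rw [hf'] <;> simp only [hf0, hf1] <;> assumption
    simp only [map_mul, map_pow]
    have h00 := hc _ _ (Or.inl rfl) (Or.inl rfl)
    have h01 := hc _ _ (Or.inl rfl) (Or.inr rfl)
    have h10 := hc _ _ (Or.inr rfl) (Or.inl rfl)
    have h11 := hc _ _ (Or.inr rfl) (Or.inr rfl)
    exact Commute.mul_left
      (((h00.mul_right h01).mul_left (h10.mul_right h11)).pow_pow _ _ |>.mul_right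
        ((h00.mul_left h10).pow_pow _ _))
      (((h00.mul_right h01).pow_pow _ _).mul_right (h00.pow_pow _ _))
  have hττ : ∀ c : G, τ * (τ * c * τ) * τ = c := fun c => by
    rw [show τ * (τ * c * τ) * τ = (τ * τ) * c * (τ * τ) by group, hτ, one_mul, mul_one]
  refine ⟨MonoidHom.mk' (fun u : Wr => f u.x * f' u.y * bif u.s then τ else 1) ?_, ?_, ?_, ?_⟩
  · rintro ⟨c, d, s⟩ ⟨c', d', s'⟩
    cases s
    · show f (c * c') * f' (d * d') * (bif xor false s' then τ else 1) =
        f c * f' d * 1 * (f c' * f' d' * bif s' then τ else 1)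
      rw [map_mul, map_mul, mul_one, Bool.false_xor, Commute.mul_mul_mul_comm (hcomm c' d) (f c)]
      simp only [mul_assoc]
    · show f (c * d') * f' (d * c') * (bif xor true s' then τ else 1) =
        f c * f' d * τ * (f c' * f' d' * bif s' then τ else 1)
      have e1 : τ * (f c' * f' d') = f d' * f' c' * τ := by
        rw [hf', hf', show τ * (f c' * (τ * f d' * τ)) = (τ * f c' * τ) * f d' * τ by group]
        rw [← hf', (hcomm d' c').eq, hf', mul_assoc]
      have e2 : (bif xor true s' then τ else 1) = τ * bif s' then τ else 1 := by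
        cases s'
        · exact (mul_one τ).symm
        · exact hτ.symm
      rw [map_mul, map_mul, e2, Commute.mul_mul_mul_comm (hcomm d' d) (f c),
        show f c * f' d * τ * (f c' * f' d' * bif s' then τ else 1) =
          f c * f' d * (τ * (f c' * f' d')) * bif s' then τ else 1 by group, e1]
      simp only [mul_assoc]
  · show f (sr 0) * f' 1 * 1 = x
    rw [map_one, mul_one, mul_one, hf0]
  · show f (sr 1) * f' 1 * 1 = y
    rw [map_one, mul_one, mul_one, hf1]
  · show f 1 * f' 1 * τ = τ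
    rw [map_one, map_one, one_mul, one_mul]

end Lift

/-- `Wr` is a Sylow 2-subgroup of the symmetric group of degree eight. -/
theorem exists_sylow_equiv (T : Sylow 2 (Equiv.Perm (Fin 8))) :
    Nonempty (Wr ≃* ↥(T : Subgroup (Equiv.Perm (Fin 8)))) := by
  haveI : Fact (Nat.Prime 2) := ⟨Nat.prime_two⟩
  obtain ⟨f, hp, ha, ht⟩ := exists_wreath_hom (G := Equiv.Perm (Fin 8))
    (x := Equiv.swap 0 1) (y := Equiv.swap 0 2 * Equiv.swap 1 3)
    (τ := Equiv.swap 0 4 * Equiv.swap 1 5 * Equiv.swap 2 6 * Equiv.swap 3 7)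
    (by decide) (by decide) (by decide) (by decide) (by show _ = _; decide) (by show _ = _; decide)
    (by show _ = _; decide) (by show _ = _; decide)
  -- a nontrivial normal subgroup meets the centre, of order two
  have hW : IsPGroup 2 Wr := IsPGroup.of_card (n := 7) (by rw [Wr.nat_card]; norm_num)
  have hinj : Function.Injective f := by
    rw [← MonoidHom.ker_eq_bot_iff]
    by_contra hne
    haveI := hW.isNilpotent
    obtain ⟨u, ⟨huk, huz⟩, hu1⟩ := (f.ker ⊓ Subgroup.center Wr).bot_or_exists_ne_one.resolve_left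
      (Cfsg.Agent.Cores.inf_center_ne_bot hne)
    have hcen : ∀ u : Wr, Wr.p * u = u * Wr.p → Wr.a * u = u * Wr.a → Wr.t * u = u * Wr.t →
        u ≠ 1 → u = (Wr.p * Wr.a) ^ 2 * (Wr.t * (Wr.p * Wr.a) ^ 2 * Wr.t) := by decide +kernel
    have hz := hcen u (Subgroup.mem_center_iff.1 huz _) (Subgroup.mem_center_iff.1 huz _)
      (Subgroup.mem_center_iff.1 huz _) hu1
    subst hz
    rw [SetLike.mem_coe, Subgroup.mem_toSubmonoid, MonoidHom.mem_ker, map_mul, map_mul, map_mul, map_pow, map_mul, hp, ha, ht] at huk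
    revert huk
    decide
  obtain ⟨T', hT'⟩ := (hW.of_equiv (MonoidHom.ofInjective hinj)).exists_le_sylow
  have hcard : Nat.card ↥(T' : Subgroup (Equiv.Perm (Fin 8))) = 128 := by
    rw [Sylow.card_eq_multiplicity, Nat.card_perm, Nat.card_eq_fintype_card, Fintype.card_fin]
    have h : Nat.factorial 8 = 2 ^ 7 * 315 := by decide
    rw [h, Nat.factorization_mul (by norm_num) (by norm_num), Finsupp.add_apply,
      Nat.Prime.factorization_pow Nat.prime_two, Finsupp.single_eq_same,
      Nat.factorization_eq_zero_of_not_dvd (by norm_num : ¬ 2 ∣ 315)]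
    norm_num
  have heq : f.range = (T' : Subgroup (Equiv.Perm (Fin 8))) :=
    Subgroup.eq_of_le_of_card_ge hT'
      (by rw [hcard, ← Nat.card_congr (MonoidHom.ofInjective hinj).toEquiv, Wr.nat_card])
  exact ⟨((MonoidHom.ofInjective hinj).trans (MulEquiv.subgroupCongr heq)).trans
    (Sylow.equiv T' T)⟩

end Cfsg.Agent.PGroups.WreathD8
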