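import Mathlib
import Cfsg.Agent.Lib.PGroups.WreathD8.Model

/-!
# Normal subgroups of order 16 and automorphisms of `D₈ ≀ C₂`

`Wr` has exactly two normal elementary abelian subgroups of order 16, interchanged by `flip`.  An
automorphism fixing the first is, after an inner automorphism, trivial on the swap and trivial
modulo the centre on the two reflections.
-/

set_option autoImplicit false

namespace Cfsg.Agent.PGroups.WreathD8

open DihedralGroup

namespace Wr

/-- The central involution. -/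
def z : Wr := ⟨r 2, r 2, false⟩

/-- The first four-group of `D`. -/
def inR (d : D) : Prop := d = 1 ∨ d = r 2 ∨ d = sr 0 ∨ d = sr 2

/-- The second four-group of `D`. -/
def inR' (d : D) : Prop := d = 1 ∨ d = r 2 ∨ d = sr 1 ∨ d = sr 3

/-- The centre of `D`. -/
def inC (d : D) : Prop := d = 1 ∨ d = r 2

instance : DecidablePred inR := fun d => by unfold inR; infer_instance

instance : DecidablePred inR' := fun d => by unfold inR'; infer_instance

instance : DecidablePred inC := fun d => by unfold inC; infer_instance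

/-- The first normal elementary abelian subgroup of order 16. -/
def V₁ : Subgroup Wr where
  carrier := {u | u.s = false ∧ inR u.x ∧ inR u.y}
  one_mem' := by decide
  mul_mem' := by
    have : ∀ u : Wr, u.s = false ∧ inR u.x ∧ inR u.y → ∀ v : Wr,
        v.s = false ∧ inR v.x ∧ inR v.y → (u * v).s = false ∧ inR (u * v).x ∧ inR (u * v).y := by
      decide +kernel
    exact fun {u v} hu hv => this u hu v hv
  inv_mem' := by
    have : ∀ u : Wr, u.s = false ∧ inR u.x ∧ inR u.y →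
        (u⁻¹).s = false ∧ inR (u⁻¹).x ∧ inR (u⁻¹).y := by decide +kernel
    exact fun {u} hu => this u hu

/-- The second normal elementary abelian subgroup of order 16. -/
def V₂ : Subgroup Wr where
  carrier := {u | u.s = false ∧ inR' u.x ∧ inR' u.y}
  one_mem' := by decide
  mul_mem' := by
    have : ∀ u : Wr, u.s = false ∧ inR' u.x ∧ inR' u.y → ∀ v : Wr,
        v.s = false ∧ inR' v.x ∧ inR' v.y → (u * v).s = false ∧ inR' (u * v).x ∧ inR' (u * v).y := by
      decide +kernel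
    exact fun {u v} hu hv => this u hu v hv
  inv_mem' := by
    have : ∀ u : Wr, u.s = false ∧ inR' u.x ∧ inR' u.y →
        (u⁻¹).s = false ∧ inR' (u⁻¹).x ∧ inR' (u⁻¹).y := by decide +kernel
    exact fun {u} hu => this u hu

/-- The centre of the base. -/
def Z₂ : Subgroup Wr where
  carrier := {u | u.s = false ∧ inC u.x ∧ inC u.y}
  one_mem' := by decide
  mul_mem' := by
    have : ∀ u : Wr, u.s = false ∧ inC u.x ∧ inC u.y → ∀ v : Wr,
        v.s = false ∧ inC v.x ∧ inC v.y → (u * v).s = false ∧ inC (u * v).x ∧ inC (u * v).y := by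
      decide +kernel
    exact fun {u v} hu hv => this u hu v hv
  inv_mem' := by
    have : ∀ u : Wr, u.s = false ∧ inC u.x ∧ inC u.y →
        (u⁻¹).s = false ∧ inC (u⁻¹).x ∧ inC (u⁻¹).y := by decide +kernel
    exact fun {u} hu => this u hu

/-- The base group. -/
def base : Subgroup Wr where
  carrier := {u | u.s = false}
  one_mem' := rfl
  mul_mem' := fun {u v} (hu : u.s = false) (hv : v.s = false) =>
    show xor u.s v.s = false by rw [hu, hv]; rfl
  inv_mem' := fun {u} hu => hu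

instance : DecidablePred (· ∈ V₁) := fun u =>
  inferInstanceAs (Decidable (u.s = false ∧ inR u.x ∧ inR u.y))

instance : DecidablePred (· ∈ V₂) := fun u =>
  inferInstanceAs (Decidable (u.s = false ∧ inR' u.x ∧ inR' u.y))

instance : DecidablePred (· ∈ Z₂) := fun u =>
  inferInstanceAs (Decidable (u.s = false ∧ inC u.x ∧ inC u.y))

instance : DecidablePred (· ∈ base) := fun u => inferInstanceAs (Decidable (u.s = false))

theorem card_V₁ : Nat.card V₁ = 16 := by rw [Nat.card_eq_fintype_card]; decide +kernel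

theorem card_V₂ : Nat.card V₂ = 16 := by rw [Nat.card_eq_fintype_card]; decide +kernel

theorem card_Z₂ : Nat.card Z₂ = 4 := by rw [Nat.card_eq_fintype_card]; decide +kernel

theorem card_base : Nat.card base = 64 := by rw [Nat.card_eq_fintype_card]; decide +kernel

theorem conj_V₁ : ∀ g u : Wr, u ∈ V₁ → g * u * g⁻¹ ∈ V₁ := by decide +kernel

theorem conj_V₂ : ∀ g u : Wr, u ∈ V₂ → g * u * g⁻¹ ∈ V₂ := by decide +kernel

theorem comm_V₁ : ∀ u : Wr, u ∈ V₁ → ∀ v : Wr, v ∈ V₁ → u * v = v * u := by decide +kernel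

theorem center_eq : ∀ u : Wr, p * u = u * p → a * u = u * a → t * u = u * t → u = 1 ∨ u = z := by
  decide +kernel

theorem z_ne : z ≠ 1 ∧ z * z = 1 := by decide

theorem z_comm : ∀ u : Wr, z * u = u * z := by decide +kernel

/-- An element of a normal abelian subgroup of exponent two lies in `V₁` or `V₂`. -/
theorem mem_or_mem : ∀ u : Wr, u * u = 1 →
    (∀ g ∈ [p, a, q, b, t, p * a, p * b], u * (g * u * g⁻¹) = g * u * g⁻¹ * u) →
      u ∈ V₁ ∨ u ∈ V₂ := by
  decide +kernel

/-- Elements of `V₁ ∖ V₂` and `V₂ ∖ V₁` lie in no common normal abelian subgroup. -/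
theorem exists_noncomm : ∀ u : Wr, u ∈ V₁ → u ∉ V₂ → ∀ w : Wr, w ∈ V₂ → w ∉ V₁ →
    ∃ g ∈ [1, t], u * (g * w * g⁻¹) ≠ g * w * g⁻¹ * u := by
  decide +kernel

theorem eq_V₁_or_V₂ (V : Subgroup Wr) (hn : ∀ g : Wr, ∀ u ∈ V, g * u * g⁻¹ ∈ V)
    (hc : ∀ u ∈ V, ∀ w ∈ V, u * w = w * u) (hs : ∀ u ∈ V, u * u = 1) (h16 : Nat.card V = 16) :
    V = V₁ ∨ V = V₂ := by
  have hmem : ∀ u ∈ V, u ∈ V₁ ∨ u ∈ V₂ := fun u hu =>
    mem_or_mem u (hs u hu) fun g _ => hc u hu _ (hn g u hu)
  by_cases h1 : V ≤ V₁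
  · exact Or.inl (Subgroup.eq_of_le_of_card_ge h1 (by rw [h16, card_V₁]))
  · right
    obtain ⟨w, hw, hw1⟩ := SetLike.not_le_iff_exists.1 h1
    refine Subgroup.eq_of_le_of_card_ge (fun u hu => ?_) (by rw [h16, card_V₂])
    by_contra hu2
    obtain ⟨g, -, hg⟩ := exists_noncomm u ((hmem u hu).resolve_right hu2) hu2 w
      ((hmem w hw).resolve_left hw1) hw1
    exact hg (hc u hu _ (hn g w hw))

/-- The automorphism of `D` interchanging the classes of reflections. -/
def flipD : D → D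
  | r i => r (-i)
  | sr i => sr (1 - i)

/-- The automorphism of `Wr` interchanging `V₁` and `V₂`. -/
def flip : Wr ≃* Wr where
  toFun u := ⟨flipD u.x, flipD u.y, u.s⟩
  invFun u := ⟨flipD u.x, flipD u.y, u.s⟩
  left_inv := by decide +kernel
  right_inv := by decide +kernel
  map_mul' := by
    have h : ∀ c d : D, flipD (c * d) = flipD c * flipD d := by decide
    rintro ⟨c, d, s⟩ ⟨c', d', s'⟩
    cases s <;> exact ext' (h _ _) (h _ _) rfl

theorem flip_gens : flip p = a ∧ flip a = p ∧ flip q = b ∧ flip b = q ∧ flip t = t ∧ flip z = z := by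
  decide

theorem flip_flip : ∀ u : Wr, flip (flip u) = u := by decide +kernel

theorem flip_mem : ∀ u : Wr, flip u ∈ V₁ ↔ u ∈ V₂ := by decide +kernel

/-- The number of elements of `V₁` centralising an element. -/
def fixCount (u : Wr) : ℕ := (Finset.univ.filter fun v => v ∈ V₁ ∧ v * u = u * v).card

theorem fixCount_ab : fixCount a = 8 ∧ fixCount b = 8 := by decide +kernel

theorem transvection : ∀ u : Wr, u * u = 1 → u ∉ V₁ → fixCount u = 8 →
    a * u ∈ V₁ ∨ b * u ∈ V₁ := by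
  decide +kernel

theorem image_p : ∀ v : Wr, v ∈ V₁ → v * b = b * v → v * a ≠ a * v → p * v ∈ Z₂ := by
  decide +kernel

theorem image_q : ∀ v : Wr, v ∈ V₁ → v * a = a * v → v * b ≠ b * v → q * v ∈ Z₂ := by
  decide +kernel

theorem image_ab : ∀ w : Wr, w ∈ V₁ → ∀ u : Wr, u ∈ V₁ → a * w * (a * w) = 1 →
    b * u * (b * u) = 1 → a * w * (b * u) = b * u * (a * w) → w ∈ Z₂ ∧ u ∈ Z₂ := by
  decide +kernel

theorem swap_conj : ∀ u : Wr, u * u = 1 → u ∉ base →
    ∃ d : Wr, d ∈ base ∧ d * u * d⁻¹ = t := by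
  decide +kernel

theorem base_conj : ∀ d : Wr, d ∈ base → ∀ ζ : Wr, ζ ∈ Z₂ →
    p * (d * (p * ζ) * d⁻¹) ∈ Z₂ ∧ a * (d * (a * ζ) * d⁻¹) ∈ Z₂ := by
  decide +kernel

theorem adjust : ∀ ζ : Wr, ζ ∈ Z₂ → ∀ η : Wr, η ∈ Z₂ → ∃ m : Wr, m * t = t * m ∧
    (m * (p * ζ) * m⁻¹ = p ∨ m * (p * ζ) * m⁻¹ = p * z) ∧
      (m * (a * η) * m⁻¹ = a ∨ m * (a * η) * m⁻¹ = a * z) := by
  decide +kernel

theorem square_central : ∀ k : Wr, k * t * k⁻¹ = t →
    (k * p * k⁻¹ = p ∨ k * p * k⁻¹ = p * z) → (k * a * k⁻¹ = a ∨ k * a * k⁻¹ = a * z) →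
      k = 1 ∨ k = z := by
  decide +kernel

/-- An automorphism fixing `V₁` is nearly inner. -/
theorem exists_normalised (γ : Wr ≃* Wr) (hγ : ∀ u ∈ V₁, γ u ∈ V₁) :
    ∃ h : Wr, h * γ t * h⁻¹ = t ∧ ∀ u, h * γ u * h⁻¹ = u ∨ h * γ u * h⁻¹ = u * z := by
  have hV : V₁.map γ.toMonoidHom = V₁ := Subgroup.eq_of_le_of_card_ge
    (by rintro _ ⟨u, hu, rfl⟩; exact hγ u hu)
    (by rw [Subgroup.card_map_of_injective γ.injective])
  have hiff : ∀ u, γ u ∈ V₁ ↔ u ∈ V₁ := fun u => by
    conv_lhs => rw [← hV]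
    exact ⟨fun ⟨w, hw, he⟩ => γ.injective he ▸ hw, fun hu => ⟨u, hu, rfl⟩⟩
  have hcount : ∀ u, fixCount (γ u) = fixCount u := fun u => by
    refine (Finset.card_equiv γ.toEquiv fun v => ?_).symm
    simp only [Finset.mem_filter, Finset.mem_univ, true_and, MulEquiv.toEquiv_eq_coe,
      EquivLike.coe_coe, hiff, ← map_mul, γ.injective.eq_iff]
  have hinv : a * a = 1 ∧ b * b = 1 ∧ p * p = 1 ∧ t * t = 1 ∧ a ∉ V₁ ∧ b ∉ V₁ ∧ a * b ∉ V₁ ∧
      a * b = b * a ∧ p * a ≠ a * p ∧ p * b = b * p ∧ p ∈ V₁ ∧ t * p * t = q ∧ t * a * t = b ∧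
        t * b * t = a ∧ t⁻¹ = t := by decide
  obtain ⟨ha2, hb2, hp2, ht2, haV, hbV, habV, hab, hpa, hpb, hpV, htp, hta, htb, hti⟩ := hinv
  have hsq : ∀ u, u * u = 1 → γ u * γ u = 1 := fun u h => by rw [← map_mul, h, map_one]
  have hA := transvection (γ a) (hsq a ha2) (fun h => haV ((hiff a).1 h))
    (by rw [hcount]; exact fixCount_ab.1)
  have hB := transvection (γ b) (hsq b hb2) (fun h => hbV ((hiff b).1 h))
    (by rw [hcount]; exact fixCount_ab.2)
  have hnot : ∀ c : Wr, c * γ a ∈ V₁ → c * γ b ∈ V₁ → False := fun c h1 h2 => habV ((hiff _).1 (by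
    have := mul_mem (inv_mem h1) h2
    rwa [mul_inv_rev, mul_assoc, inv_mul_cancel_left, inv_eq_of_mul_eq_one_right (hsq a ha2),
      ← map_mul] at this))
  obtain ⟨h₀, hh₀V, hh₀A, hh₀B⟩ : ∃ h : Wr, (∀ u ∈ V₁, h * γ u * h⁻¹ ∈ V₁) ∧
      a * (h * γ a * h⁻¹) ∈ V₁ ∧ b * (h * γ b * h⁻¹) ∈ V₁ := by
    refine hA.elim (fun hA => ⟨1, fun u hu => by simpa using hγ u hu, by simpa using hA,
      by simpa using hB.resolve_left fun hB' => hnot a hA hB'⟩) fun hA => ⟨t, fun u hu =>
        conj_V₁ t _ (hγ u hu), ?_, ?_⟩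
    · have := conj_V₁ t _ hA
      rwa [hti, show t * (b * γ a) * t = t * b * (t * t) * γ a * t by rw [ht2]; group,
        show t * b * (t * t) * γ a * t = t * b * t * (t * γ a * t) by group, htb, ← hti] at this
    · have := conj_V₁ t _ (hB.resolve_right fun hB' => hnot b hA hB')
      rwa [hti, show t * (a * γ b) * t = t * a * (t * t) * γ b * t by rw [ht2]; group,
        show t * a * (t * t) * γ b * t = t * a * t * (t * γ b * t) by group, hta, ← hti] at this
  -- the automorphism `δ`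
  set δ : Wr ≃* Wr := γ.trans (MulAut.conj h₀) with hδ
  have hδV : ∀ u ∈ V₁, δ u ∈ V₁ := hh₀V
  have hcomm : ∀ u w : Wr, u * w = w * u → δ u * δ w = δ w * δ u := fun u w h => by
    rw [← map_mul, h, map_mul]
  have hA' : a * δ a * δ p = δ p * (a * δ a) := comm_V₁ _ hh₀A _ (hδV p hpV)
  have hB' : b * δ b * δ p = δ p * (b * δ b) := comm_V₁ _ hh₀B _ (hδV p hpV)
  have hP : p * δ p ∈ Z₂ := by
    refine image_p _ (hδV p hpV) ?_ fun h => hpa (δ.injective ?_)
    · have hc := hcomm p b hpb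
      rw [show δ b = b * (b * δ b) by rw [← mul_assoc, hb2, one_mul], ← mul_assoc,
        mul_assoc b (b * δ b) (δ p), hB', ← mul_assoc b] at hc
      exact mul_right_cancel hc
    · rw [map_mul, map_mul, show δ a = a * (a * δ a) by rw [← mul_assoc, ha2, one_mul],
        ← mul_assoc, mul_assoc a (a * δ a) (δ p), hA', ← mul_assoc a, h]
  have eA : a * (a * δ a) = δ a := by rw [← mul_assoc, ha2, one_mul]
  have eB : b * (b * δ b) = δ b := by rw [← mul_assoc, hb2, one_mul]
  obtain ⟨hwA, -⟩ := image_ab (a * δ a) hh₀A (b * δ b) hh₀B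
    (by rw [eA, ← map_mul, ha2, map_one]) (by rw [eB, ← map_mul, hb2, map_one])
    (by rw [eA, eB]; exact hcomm a b hab)
  have htT : δ t ∉ base := fun h => by
    have hsub : ∀ u, δ u ∈ base := fun u => mem_of_gens (K := base.comap δ.toMonoidHom)
      ((show V₁ ≤ base from fun _ hv => hv.1) (hδV p hpV))
      (show δ a ∈ base by
        have := mul_mem (show a ∈ base from rfl) ((show Z₂ ≤ base from fun _ hv => hv.1) hwA)
        rwa [← mul_assoc, ha2, one_mul] at this)
      ((show V₁ ≤ base from fun _ hv => hv.1) (hδV q (by decide)))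
      (show δ b ∈ base by
        have := mul_mem (show b ∈ base from rfl) ((show V₁ ≤ base from fun _ hv => hv.1) hh₀B)
        rwa [← mul_assoc, hb2, one_mul] at this) h u
    obtain ⟨u, hu⟩ := δ.surjective t
    have := hsub u
    rw [hu] at this
    revert this
    decide
  obtain ⟨d, hd, hdt⟩ := swap_conj (δ t) (by rw [← map_mul, ht2, map_one]) htT
  obtain ⟨hζ, -⟩ := base_conj d hd _ hP
  obtain ⟨-, hη⟩ := base_conj d hd _ hwA
  rw [← mul_assoc p p, hp2, one_mul] at hζ
  rw [← mul_assoc a a, ha2, one_mul] at hη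
  obtain ⟨m, hmt, hmp, hma⟩ := adjust _ hζ _ hη
  rw [← mul_assoc p p, hp2, one_mul] at hmp
  rw [← mul_assoc a a, ha2, one_mul] at hma
  set h := m * d * h₀ with hh
  have heq : ∀ u, h * γ u * h⁻¹ = m * (d * δ u * d⁻¹) * m⁻¹ := fun u => by
    show h * γ u * h⁻¹ = m * (d * (h₀ * γ u * h₀⁻¹) * d⁻¹) * m⁻¹
    rw [hh]; group
  refine ⟨h, ?_, ?_⟩
  · rw [heq, hdt, hmt, mul_inv_cancel_right]
  set ε : Wr →* Wr := (γ.trans (MulAut.conj h)).toMonoidHom with hε
  let K : Subgroup Wr :=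
    { carrier := {u | ε u = u ∨ ε u = u * z}
      one_mem' := Or.inl (map_one ε)
      mul_mem' := fun {u v} hu hv => by
        show ε (u * v) = _ ∨ ε (u * v) = _
        rw [map_mul]
        rcases hu with hu | hu <;> rcases hv with hv | hv <;> rw [hu, hv]
        · exact Or.inl rfl
        · exact Or.inr (mul_assoc _ _ _).symm
        · exact Or.inr (by rw [mul_assoc, z_comm v, mul_assoc])
        · refine Or.inl ?_
          rw [mul_assoc, ← mul_assoc z v z, z_comm v, mul_assoc v z z, z_ne.2, mul_one]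
      inv_mem' := fun {u} hu => by
        show ε u⁻¹ = _ ∨ ε u⁻¹ = _
        rw [map_inv]
        rcases hu with hu | hu <;> rw [hu]
        · exact Or.inl rfl
        · refine Or.inr ?_
          rw [mul_inv_rev, inv_eq_of_mul_eq_one_right z_ne.2, z_comm] }
  have hKp : p ∈ K := by
    show h * γ p * h⁻¹ = _ ∨ h * γ p * h⁻¹ = _
    rw [heq]; exact hmp
  have hKa : a ∈ K := by
    show h * γ a * h⁻¹ = _ ∨ h * γ a * h⁻¹ = _
    rw [heq]; exact hma
  have hKt : t ∈ K := Or.inl (show h * γ t * h⁻¹ = t by rw [heq, hdt, hmt, mul_inv_cancel_right])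
  intro u
  exact mem_of_gens hKp hKa (by rw [← htp]; exact mul_mem (mul_mem hKt hKp) hKt)
    (by rw [← hta]; exact mul_mem (mul_mem hKt hKa) hKt) hKt u

end Wr

end Cfsg.Agent.PGroups.WreathD8
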