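import Mathlib
import Cfsg.Prelude.Def_CaseTheorems
import Cfsg.Agent.GenA.SectionalRankFour
import Cfsg.Agent.Lib.PGroups.Q8Q8.Basic
import Cfsg.Agent.Lib.PGroups.WreathD8.Facts

/-!
# A copy of `D₈ ≀ C₂` in a 2-group of sectional rank at most four

The copy is the normalizer of each of its normal elementary abelian subgroups of order 16, and has
index 2 in its own normalizer.
-/

set_option autoImplicit false
set_option linter.style.haveILetI false
set_option linter.unusedSectionVars false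

namespace Cfsg.Agent.PGroups.WreathD8

open Subgroup

universe u

variable {S : Type u} [Group S] {ψ : Wr →* S}

theorem exists_aut (hψ : Function.Injective ψ) {g : S}
    (hg : g ∈ normalizer (ψ.range : Set S)) :
    ∃ γ : Wr ≃* Wr, ∀ u, ψ (γ u) = g * ψ u * g⁻¹ := by
  set f : Wr →* Wr := (MonoidHom.ofInjective hψ).symm.toMonoidHom.comp
    ((((MulAut.conj g).toMonoidHom.comp ψ)).codRestrict ψ.range fun u =>
      (mem_normalizer_iff.1 hg (ψ u)).1 ⟨u, rfl⟩) with hfdef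
  have hf : ∀ u, ψ (f u) = g * ψ u * g⁻¹ := fun u => by
    show ψ ((MonoidHom.ofInjective hψ).symm _) = _
    rw [← MonoidHom.ofInjective_apply hψ, MulEquiv.apply_symm_apply]
    rfl
  have hinj : Function.Injective f := fun u v h => hψ (by
    have := congrArg ψ h
    rwa [hf, hf, mul_left_inj, mul_right_inj] at this)
  exact ⟨MulEquiv.ofBijective f (Finite.injective_iff_bijective.1 hinj), hf⟩

/-- An element of the normalizer adjusted so that it acts as `σ` modulo the centre. -/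
theorem exists_good (hψ : Function.Injective ψ) (σ : Wr ≃* Wr) (hσσ : ∀ u, σ (σ u) = u)
    (hσt : σ Wr.t = Wr.t) (hσz : σ Wr.z = Wr.z) {g : S} (hg : g ∈ normalizer (ψ.range : Set S))
    (hg2 : g * g ∈ ψ.range)
    (hV : ∀ u ∈ Wr.V₁, ∀ w, ψ w = g * ψ u * g⁻¹ → σ w ∈ Wr.V₁) :
    ∃ g' ∈ normalizer (ψ.range : Set S), (g' ∈ ψ.range → g ∈ ψ.range) ∧
      (g' * g' = 1 ∨ g' * g' = ψ Wr.z) ∧ g' * ψ Wr.t * g'⁻¹ = ψ Wr.t ∧
      ∀ u, g' * ψ u * g'⁻¹ = ψ (σ u) ∨ g' * ψ u * g'⁻¹ = ψ (σ u * Wr.z) := by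
  obtain ⟨γ, hγ⟩ := exists_aut hψ hg
  obtain ⟨h, ht, hu⟩ := Wr.exists_normalised (γ.trans σ) fun u hu => hV u hu _ (hγ u)
  set g' := ψ (σ h) * g with hg'
  have hconj : ∀ u, g' * ψ u * g'⁻¹ = ψ (σ (h * σ (γ u) * h⁻¹)) := fun u => by
    rw [map_mul σ, map_mul σ, hσσ, map_inv σ, map_mul ψ, map_mul ψ, map_inv ψ, hγ, hg']
    group
  have hact : ∀ u, g' * ψ u * g'⁻¹ = ψ (σ u) ∨ g' * ψ u * g'⁻¹ = ψ (σ u * Wr.z) := fun u => by
    rw [hconj]
    rcases hu u with h1 | h1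
    · exact Or.inl (congrArg (fun v => ψ (σ v)) h1)
    · right
      rw [show h * σ (γ u) * h⁻¹ = u * Wr.z from h1, map_mul σ, hσz]
  have hfix : g' * ψ Wr.t * g'⁻¹ = ψ Wr.t := by
    rw [hconj, show h * σ (γ Wr.t) * h⁻¹ = Wr.t from ht, hσt]
  have hP : g' ∈ normalizer (ψ.range : Set S) := mul_mem (le_normalizer ⟨_, rfl⟩) hg
  refine ⟨g', hP, fun h1 => (Subgroup.mul_mem_cancel_left ψ.range ⟨σ h, rfl⟩).1 h1, ?_, hfix, hact⟩
  have hzfix : g' * ψ Wr.z * g'⁻¹ = ψ Wr.z := by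
    rcases hact Wr.z with h1 | h1 <;> rw [hσz] at h1
    · exact h1
    · rw [Wr.z_ne.2, map_one, conj_eq_one_iff] at h1
      exact absurd (hψ (h1.trans (map_one ψ).symm)) Wr.z_ne.1
  obtain ⟨k, hk⟩ : g' * g' ∈ ψ.range := by
    rw [show g' * g' = ψ (σ h) * (g * ψ (σ h) * g⁻¹) * (g * g) by rw [hg']; group]
    exact mul_mem (mul_mem ⟨_, rfl⟩ ((mem_normalizer_iff.1 hg _).1 ⟨_, rfl⟩)) hg2
  have htwo : ∀ u, k * u * k⁻¹ = u ∨ k * u * k⁻¹ = u * Wr.z := fun u => by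
    have h2 : ψ (k * u * k⁻¹) = g' * (g' * ψ u * g'⁻¹) * g'⁻¹ := by
      rw [map_mul, map_mul, map_inv, hk]; group
    have hz' : ∀ v, g' * ψ (v * Wr.z) * g'⁻¹ = g' * ψ v * g'⁻¹ * ψ Wr.z := fun v => by
      rw [map_mul, show g' * (ψ v * ψ Wr.z) * g'⁻¹ = g' * ψ v * g'⁻¹ * (g' * ψ Wr.z * g'⁻¹) by
        group, hzfix]
    rcases hact u with h1 | h1 <;> rw [h1] at h2 <;> rcases hact (σ u) with h3 | h3 <;>
      rw [hσσ] at h3
    · exact Or.inl (hψ (h2.trans h3))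
    · exact Or.inr (hψ (h2.trans h3))
    · rw [hz', h3, ← map_mul] at h2
      exact Or.inr (hψ h2)
    · rw [hz', h3, ← map_mul, mul_assoc u, Wr.z_ne.2, mul_one] at h2
      exact Or.inl (hψ h2)
  have hkt : k * Wr.t * k⁻¹ = Wr.t := hψ (by
    rw [map_mul, map_mul, map_inv, hk,
      show g' * g' * ψ Wr.t * (g' * g')⁻¹ = g' * (g' * ψ Wr.t * g'⁻¹) * g'⁻¹ by group, hfix, hfix])
  rw [← hk]
  rcases Wr.square_central k hkt (htwo _) (htwo _) with h1 | h1 <;> rw [h1]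
  · exact Or.inl (map_one ψ)
  · exact Or.inr rfl

variable [Finite S]

theorem not_mem_of_sectional (hψ : Function.Injective ψ) (hr : Cfsg.SectionalPRankLE 2 4 S)
    {g : S} (hg : g ∈ normalizer (ψ.range : Set S)) (hg2 : g * g ∈ ψ.range)
    (hV : g ∈ normalizer ((Wr.V₁.map ψ : Subgroup S) : Set S)) : g ∈ ψ.range := by
  obtain ⟨g', -, hmem, hsq, -, hact⟩ := exists_good hψ (MulEquiv.refl Wr) (fun _ => rfl) rfl rfl
    hg hg2 fun u hu w hw => by
      obtain ⟨v, hv, hvw⟩ := (mem_normalizer_iff.1 hV (ψ u)).1 ⟨u, hu, rfl⟩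
      exact hψ (hvw.trans hw.symm) ▸ hv
  by_contra hgP
  have hg'P : g' ∉ ψ.range := fun h => hgP (hmem h)
  set B : Subgroup S := Wr.base.map ψ with hB
  set Z : Subgroup S := Wr.Z₂.map ψ with hZ
  set D : Subgroup S := B ⊔ zpowers g' with hD
  have hzZ : Wr.z ∈ Wr.Z₂ := by decide
  have hzb : ∀ u : Wr, u ∈ Wr.base → u * Wr.z ∈ Wr.base := by decide +kernel
  have hzZ₂ : ∀ u : Wr, u ∈ Wr.Z₂ → u * Wr.z ∈ Wr.Z₂ := by decide +kernel
  have hZbase : ∀ u : Wr, u ∈ Wr.base → ∀ v : Wr, v ∈ Wr.Z₂ → u * v * u⁻¹ ∈ Wr.Z₂ := by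
    decide +kernel
  have hsqb : ∀ u : Wr, u ∈ Wr.base → u * u ∈ Wr.Z₂ := by decide +kernel
  have hnor : ∀ K : Subgroup Wr, (∀ u ∈ K, u * Wr.z ∈ K) →
      g' ∈ normalizer ((K.map ψ : Subgroup S) : Set S) := fun K hK => by
    refine mem_normalizer_iff.2 fun x => ?_
    have hfw : ∀ x ∈ K.map ψ, g' * x * g'⁻¹ ∈ K.map ψ := by
      rintro _ ⟨u, hu, rfl⟩
      rcases hact u with h1 | h1 <;> rw [h1]
      · exact ⟨u, hu, rfl⟩
      · exact ⟨_, hK u hu, rfl⟩
    refine ⟨hfw x, fun hx => ?_⟩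
    have hc : ∀ u, g' * g' * ψ u * (g' * g')⁻¹ = ψ u := fun u => by
      rcases hsq with h1 | h1 <;> rw [h1]
      · group
      · rw [← map_mul, Wr.z_comm, map_mul, mul_inv_cancel_right]
    obtain ⟨v, hv, hve⟩ := hfw _ hx
    rw [show g' * (g' * x * g'⁻¹) * g'⁻¹ = g' * g' * x * (g' * g')⁻¹ by group] at hve
    rw [← hc v] at hve
    exact ⟨v, hv, mul_left_cancel (mul_right_cancel hve)⟩
  have hBn : zpowers g' ≤ normalizer (B : Set S) := zpowers_le.2 (hnor _ hzb)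
  have hn : D ≤ normalizer (Z : Set S) := sup_le
    (le_normalizer_iff.2 (by
      rintro _ ⟨u, hu, rfl⟩ _ ⟨v, hv, rfl⟩
      exact ⟨_, hZbase u hu v hv, by rw [map_mul, map_mul, map_inv]⟩))
    (zpowers_le.2 (hnor _ hzZ₂))
  have hgg : ∃ w ∈ Wr.Z₂, g' * g' = ψ w := by
    rcases hsq with h1 | h1
    · exact ⟨1, one_mem _, h1.trans (map_one ψ).symm⟩
    · exact ⟨_, hzZ, h1⟩
  obtain ⟨w₀, hw₀, hw₀e⟩ := hgg
  have hw₀b : w₀ ∈ Wr.base := hw₀.1
  have hdec : ∀ d ∈ D, ∃ u ∈ Wr.base, d = ψ u ∨ d = ψ u * g' := by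
    intro d hd
    rw [← SetLike.mem_coe, hD, coe_mul_of_right_le_normalizer_left _ _ hBn] at hd
    obtain ⟨_, ⟨u, hu, rfl⟩, c, hc, rfl⟩ := hd
    obtain ⟨i, rfl⟩ := mem_zpowers_iff.1 hc
    rcases Int.even_or_odd' i with ⟨j, rfl | rfl⟩
    · refine ⟨u * w₀ ^ j, mul_mem hu (zpow_mem hw₀b j), Or.inl ?_⟩
      show ψ u * g' ^ (2 * j) = _
      rw [map_mul, map_zpow, zpow_mul, zpow_two, hw₀e]
    · refine ⟨u * w₀ ^ j, mul_mem hu (zpow_mem hw₀b j), Or.inr ?_⟩
      show ψ u * g' ^ (2 * j + 1) = _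
      rw [map_mul, map_zpow, zpow_add, zpow_mul, zpow_two, hw₀e, zpow_one, mul_assoc]
  have hsqD : ∀ d ∈ D, d * d ∈ Z := by
    intro d hd
    obtain ⟨u, hu, rfl | rfl⟩ := hdec d hd
    · exact ⟨_, hsqb u hu, map_mul ψ u u⟩
    · rw [show ψ u * g' * (ψ u * g') = ψ u * (g' * ψ u * g'⁻¹) * (g' * g') by group]
      refine mul_mem ?_ (hw₀e ▸ ⟨_, hw₀, rfl⟩)
      rcases hact u with h1 | h1 <;> rw [h1, ← map_mul]
      · exact ⟨_, hsqb u hu, rfl⟩
      · refine ⟨_, ?_, rfl⟩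
        show u * (u * Wr.z) ∈ Wr.Z₂
        rw [← mul_assoc]
        exact mul_mem (hsqb u hu) hzZ
  have hZD : Z ≤ D := le_trans (map_mono fun u hu => hu.1) le_sup_left
  have hle := GenA.SectionalRankFour.card_le_of_squares hr Z D hZD hn hsqD
  rw [hZ, card_map_of_injective hψ, Wr.card_Z₂] at hle
  have h64 : Nat.card B = 64 := by rw [hB, card_map_of_injective hψ, Wr.card_base]
  obtain ⟨c, hc⟩ := card_dvd_of_le (le_sup_left : B ≤ D)
  have hlt : Nat.card B < Nat.card D := by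
    refine lt_of_le_of_ne (card_le_of_le le_sup_left) fun he => hg'P ?_
    have := eq_of_le_of_card_ge (le_sup_left : B ≤ D) he.ge
    exact (map_le_range ψ _) (this ▸ mem_sup_right (mem_zpowers g'))
  rw [h64] at hc hlt
  norm_num at hle
  omega

/-- The copy is the normalizer of the image of `V₁`. -/
theorem normalizer_V₁ (h2 : IsPGroup 2 S) (hr : Cfsg.SectionalPRankLE 2 4 S)
    (hψ : Function.Injective ψ) :
    normalizer ((Wr.V₁.map ψ : Subgroup S) : Set S) = ψ.range := by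
  set M := normalizer ((Wr.V₁.map ψ : Subgroup S) : Set S) with hM
  have hPM : ψ.range ≤ M := le_normalizer_iff.2 (by
    rintro _ ⟨u, rfl⟩ _ ⟨v, hv, rfl⟩
    exact ⟨_, Wr.conj_V₁ u v hv, by rw [map_mul, map_mul, map_inv]⟩)
  refine le_antisymm ?_ hPM
  by_contra hne
  haveI : Group.IsNilpotent M := (h2.to_subgroup M).isNilpotent
  have hlt : ψ.range.subgroupOf M < ⊤ :=
    lt_top_iff_ne_top.2 fun he => hne (subgroupOf_eq_top.1 he)
  obtain ⟨n, hn, hnP⟩ := SetLike.exists_of_lt (Group.normalizerCondition_of_isNilpotent _ hlt)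
  have hnP' : (n : S) ∈ normalizer (ψ.range : Set S) := by
    refine mem_normalizer_iff.2 fun x => ?_
    constructor
    · intro hx
      exact (mem_normalizer_iff.1 hn ⟨x, hPM hx⟩).1 hx
    · intro hx
      have hxM : x ∈ M := by
        have := mul_mem (mul_mem (inv_mem n.2) (hPM hx)) n.2
        rwa [show (n : S)⁻¹ * ((n : S) * x * (n : S)⁻¹) * n = x by group] at this
      exact (mem_normalizer_iff.1 hn ⟨x, hxM⟩).2 hx
  set G := M ⊓ normalizer (ψ.range : Set S) with hG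
  obtain ⟨v, hv, hvP, hv2, -⟩ := Q8Q8.exists_step h2 (G := G) (N := ψ.range) (C := G)
    inf_le_right le_normalizer le_rfl
    (lt_of_le_of_ne (le_inf hPM le_normalizer) fun he =>
      hnP (show (n : S) ∈ ψ.range by rw [he]; exact ⟨n.2, hnP'⟩))
  exact hvP (not_mem_of_sectional hψ hr hv.2 hv2 hv.1)

theorem injective_flip (hψ : Function.Injective ψ) :
    Function.Injective (ψ.comp Wr.flip.toMonoidHom) := hψ.comp Wr.flip.injective

theorem range_flip : (ψ.comp Wr.flip.toMonoidHom).range = ψ.range :=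
  by rw [MonoidHom.range_comp, MonoidHom.range_eq_top.2 Wr.flip.surjective, MonoidHom.range_eq_map]

theorem map_flip : Wr.V₁.map (ψ.comp Wr.flip.toMonoidHom) = Wr.V₂.map ψ := by
  rw [← Subgroup.map_map]
  congr 1
  ext u
  rw [mem_map]
  constructor
  · rintro ⟨v, hv, rfl⟩
    exact (Wr.flip_mem (Wr.flip v)).1 (by rw [Wr.flip_flip]; exact hv)
  · exact fun hu => ⟨Wr.flip u, (Wr.flip_mem u).2 hu, Wr.flip_flip u⟩

/-- The copy is the normalizer of the image of `V₂`. -/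
theorem normalizer_V₂ (h2 : IsPGroup 2 S) (hr : Cfsg.SectionalPRankLE 2 4 S)
    (hψ : Function.Injective ψ) :
    normalizer ((Wr.V₂.map ψ : Subgroup S) : Set S) = ψ.range := by
  rw [← map_flip, normalizer_V₁ h2 hr (injective_flip hψ), range_flip]

/-- An element of the normalizer outside the copy interchanges the two subgroups. -/
theorem swaps (h2 : IsPGroup 2 S) (hr : Cfsg.SectionalPRankLE 2 4 S) (hψ : Function.Injective ψ)
    {g : S} (hg : g ∈ normalizer (ψ.range : Set S)) (hgP : g ∉ ψ.range) :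
    (Wr.V₁.map ψ).map (MulAut.conj g).toMonoidHom = Wr.V₂.map ψ ∧
      (Wr.V₂.map ψ).map (MulAut.conj g).toMonoidHom = Wr.V₁.map ψ := by
  obtain ⟨γ, hγ⟩ := exists_aut hψ hg
  have hmap : ∀ K : Subgroup Wr,
      (K.map ψ).map (MulAut.conj g).toMonoidHom = (K.map γ.toMonoidHom).map ψ := fun K => by
    rw [Subgroup.map_map, Subgroup.map_map]
    congr 1
    exact MonoidHom.ext fun u => (hγ u).symm
  have himg : ∀ K : Subgroup Wr, (∀ g : Wr, ∀ u ∈ K, g * u * g⁻¹ ∈ K) →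
      (∀ u ∈ K, ∀ w ∈ K, u * w = w * u) → (∀ u ∈ K, u * u = 1) → Nat.card K = 16 →
        K.map γ.toMonoidHom = Wr.V₁ ∨ K.map γ.toMonoidHom = Wr.V₂ := fun K hn hc hs h16 =>
    Wr.eq_V₁_or_V₂ _
      (by
        rintro c _ ⟨u, hu, rfl⟩
        exact ⟨γ.symm c * u * (γ.symm c)⁻¹, hn _ u hu, by simp⟩)
      (by rintro _ ⟨u, hu, rfl⟩ _ ⟨w, hw, rfl⟩; rw [← map_mul, hc u hu w hw, map_mul])
      (by rintro _ ⟨u, hu, rfl⟩; rw [← map_mul, hs u hu, map_one])
      (by rw [card_map_of_injective γ.injective, h16])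
  have hnot : ∀ K : Subgroup Wr, K.map γ.toMonoidHom = K →
      g ∈ normalizer ((K.map ψ : Subgroup S) : Set S) := fun K hK => by
    have h := hmap K
    rw [hK] at h
    refine mem_normalizer_iff.2 fun x => ?_
    constructor
    · intro hx
      rw [← h]; exact ⟨x, hx, rfl⟩
    · intro hx
      rw [← h] at hx
      obtain ⟨v, hv, hvx⟩ := hx
      exact (MulAut.conj g).injective hvx ▸ hv
  have hsq1 : ∀ u : Wr, u ∈ Wr.V₁ → u * u = 1 := by decide +kernel
  have hsq2 : ∀ u : Wr, u ∈ Wr.V₂ → u * u = 1 := by decide +kernel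
  have hc2 : ∀ u : Wr, u ∈ Wr.V₂ → ∀ w : Wr, w ∈ Wr.V₂ → u * w = w * u := by decide +kernel
  have h1 := (himg _ Wr.conj_V₁ Wr.comm_V₁ hsq1 Wr.card_V₁).resolve_left fun h =>
    hgP (normalizer_V₁ h2 hr hψ ▸ hnot _ h)
  have h2' := (himg _ Wr.conj_V₂ hc2 hsq2 Wr.card_V₂).resolve_right fun h =>
    hgP (normalizer_V₂ h2 hr hψ ▸ hnot _ h)
  exact ⟨by rw [hmap, h1], by rw [hmap, h2']⟩

/-- The copy has index two in its normalizer, unless it is everything. -/
theorem relIndex_normalizer (h2 : IsPGroup 2 S) (hr : Cfsg.SectionalPRankLE 2 4 S)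
    (hψ : Function.Injective ψ) (hne : ψ.range ≠ ⊤) :
    ψ.range.relIndex (normalizer (ψ.range : Set S)) = 2 := by
  haveI := h2.isNilpotent
  obtain ⟨g, hg, hgP⟩ := SetLike.exists_of_lt
    (Group.normalizerCondition_of_isNilpotent _ (lt_top_iff_ne_top.2 hne))
  refine index_eq_two_iff.2 ⟨⟨g, hg⟩, fun b => ?_⟩
  by_cases hb : (b : S) ∈ ψ.range
  · exact Or.inr ⟨hb, fun h => hgP ((Subgroup.mul_mem_cancel_left _ hb).1 h)⟩
  · refine Or.inl ⟨?_, hb⟩
    show (b : S) * g ∈ ψ.range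
    by_contra hbg
    have h1 := (swaps h2 hr hψ (mul_mem b.2 hg) hbg).1
    have e : ∀ K : Subgroup S, K.map (MulAut.conj ((b : S) * g)).toMonoidHom =
        (K.map (MulAut.conj g).toMonoidHom).map (MulAut.conj (b : S)).toMonoidHom := fun K => by
      rw [Subgroup.map_map]
      congr 1
      exact MonoidHom.ext fun x => by simp [mul_assoc]
    rw [e, (swaps h2 hr hψ hg hgP).1, (swaps h2 hr hψ b.2 hb).2] at h1
    have h3 : Wr.V₁ = Wr.V₂ := map_injective hψ h1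
    have : Wr.p ∈ Wr.V₂ := h3 ▸ (by decide : Wr.p ∈ Wr.V₁)
    revert this
    decide

/-- The centre of the ambient group is the image of `⟨z⟩`. -/
theorem center_eq_zpowers (h2 : IsPGroup 2 S) (hr : Cfsg.SectionalPRankLE 2 4 S)
    (hψ : Function.Injective ψ) : center S = zpowers (ψ Wr.z) := by
  haveI : Fact (Nat.Prime 2) := ⟨Nat.prime_two⟩
  have hmem : ∀ x ∈ center S, x = 1 ∨ x = ψ Wr.z := fun x hx => by
    have hN : x ∈ normalizer ((Wr.V₁.map ψ : Subgroup S) : Set S) :=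
      centralizer_le_normalizer _ (mem_centralizer_iff.2 fun y _ => mem_center_iff.1 hx y)
    rw [normalizer_V₁ h2 hr hψ] at hN
    obtain ⟨u, rfl⟩ := hN
    have hc : ∀ v, v * u = u * v := fun v => hψ (by
      rw [map_mul, map_mul]; exact mem_center_iff.1 hx (ψ v))
    rcases Wr.center_eq u (hc _) (hc _) (hc _) with h | h <;> rw [h]
    · exact Or.inl (map_one ψ)
    · exact Or.inr rfl
  refine le_antisymm (fun x hx => ?_) (zpowers_le.2 ?_)
  · rcases hmem x hx with h | h <;> rw [h]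
    · exact one_mem _
    · exact mem_zpowers _
  · haveI : Nontrivial S := ⟨⟨ψ Wr.z, 1, fun h => Wr.z_ne.1 (hψ (h.trans (map_one ψ).symm))⟩⟩
    haveI := h2.center_nontrivial
    obtain ⟨x, hx⟩ := exists_ne (1 : center S)
    rcases hmem x x.2 with h | h
    · exact absurd (Subtype.ext h) hx
    · exact h ▸ x.2

end Cfsg.Agent.PGroups.WreathD8
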