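import Mathlib
import Cfsg.Agent.Lib.PGroups.WreathD8.Normalizer

/-!
# The normalizer of a copy of `D₈ ≀ C₂` modulo the centre

In a 2-group of sectional rank at most four the normalizer of a proper copy of `D₈ ≀ C₂`, modulo
the centre of the group, is again `D₈ ≀ C₂`.
-/

set_option autoImplicit false
set_option linter.style.haveILetI false

namespace Cfsg.Agent.PGroups.WreathD8

open Subgroup

universe u

variable {S : Type u} [Group S] [Finite S] {ψ : Wr →* S}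

/-- The normalizer modulo the centre is isomorphic to the copy. -/
theorem quotient_equiv (h2 : IsPGroup 2 S) (hr : Cfsg.SectionalPRankLE 2 4 S)
    (hψ : Function.Injective ψ) (hne : ψ.range ≠ ⊤) :
    Nonempty ((↥(normalizer (ψ.range : Set S)) ⧸
      (center S).subgroupOf (normalizer (ψ.range : Set S))) ≃* Wr) := by
  set Nn : Subgroup S := normalizer (ψ.range : Set S) with hNn
  set Zs : Subgroup Nn := (center S).subgroupOf Nn with hZs
  have hidx := relIndex_normalizer h2 hr hψ hne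
  rw [← hNn] at hidx
  have hiff : ∀ a b : Nn, ((a : S) * (b : S) ∈ ψ.range) ↔
      ((a : S) ∈ ψ.range ↔ (b : S) ∈ ψ.range) := fun a b =>
    mul_mem_iff_of_index_two (H := ψ.range.subgroupOf Nn) hidx (a := a) (b := b)
  have hPN : ψ.range ≤ Nn := le_normalizer
  -- an element acting as `flip`
  obtain ⟨g₀, hg₀, hg₀P⟩ := SetLike.exists_of_lt (lt_of_le_of_ne hPN fun he => by
    rw [he, relIndex_self] at hidx
    omega)
  obtain ⟨g, hg, hmem, hsq, hgt, hact⟩ := exists_good hψ Wr.flip Wr.flip_flip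
    Wr.flip_gens.2.2.2.2.1 Wr.flip_gens.2.2.2.2.2 hg₀ ((hiff ⟨g₀, hg₀⟩ ⟨g₀, hg₀⟩).2 Iff.rfl)
    fun u hu w hw => by
      have h1 : ψ w ∈ (Wr.V₂.map ψ) := by
        rw [← (swaps h2 hr hψ hg₀ hg₀P).1, hw]
        exact ⟨ψ u, ⟨u, hu, rfl⟩, rfl⟩
      obtain ⟨v, hv, hvw⟩ := h1
      exact (Wr.flip_mem w).2 (hψ hvw ▸ hv)
  have hgP : g ∉ ψ.range := fun h => hg₀P (hmem h)
  -- the images in the quotient
  set π := QuotientGroup.mk' Zs with hπ
  set ψ' : Wr →* Nn ⧸ Zs := π.comp (ψ.codRestrict Nn fun u => hPN ⟨u, rfl⟩) with hψ'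
  set G : Nn ⧸ Zs := π ⟨g, hg⟩ with hG
  have hzc : ψ Wr.z ∈ center S := by
    rw [center_eq_zpowers h2 hr hψ]; exact mem_zpowers _
  have hz : ψ' Wr.z = 1 := (QuotientGroup.eq_one_iff _).2 hzc
  have hGG : G * G = 1 := by
    refine (QuotientGroup.eq_one_iff _).2 (show g * g ∈ center S from ?_)
    rcases hsq with h | h <;> rw [h]
    · exact one_mem _
    · exact hzc
  have hGψ : ∀ u, G * ψ' u = ψ' (Wr.flip u) * G := fun u => by
    have key : ∀ v, g * ψ u * g⁻¹ = ψ v → G * ψ' u = ψ' v * G := fun v hv =>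
      congrArg π (Subtype.ext (show g * ψ u = ψ v * g by rw [← hv]; group) :
        (⟨g, hg⟩ : Nn) * ⟨ψ u, hPN ⟨u, rfl⟩⟩ = ⟨ψ v, hPN ⟨v, rfl⟩⟩ * ⟨g, hg⟩)
    rcases hact u with h | h
    · exact key _ h
    · rw [key _ h, map_mul, hz, mul_one]
  have heq : ∀ u v : Wr, (u = v ∨ u = v * Wr.z) → ψ' u = ψ' v := fun u v h => by
    rcases h with h | h <;> rw [h]
    rw [map_mul, hz, mul_one]
  have hGm : ∀ u c, ψ' u * G * (ψ' c * G) = ψ' (u * Wr.flip c) := fun u c => by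
    rw [map_mul, show ψ' u * G * (ψ' c * G) = ψ' u * (G * ψ' c) * G by group, hGψ,
      show ψ' u * (ψ' (Wr.flip c) * G) * G = ψ' u * ψ' (Wr.flip c) * (G * G) by group, hGG,
      mul_one]
  have hGc : ∀ u c, ψ' u * G * ψ' c = ψ' (u * Wr.flip c) * G := fun u c => by
    rw [mul_assoc, hGψ, ← mul_assoc, map_mul]
  -- the generators
  set x : Nn ⧸ Zs := ψ' Wr.t * G with hx
  set y : Nn ⧸ Zs := ψ' (Wr.t * Wr.p * Wr.q) with hy
  set τ : Nn ⧸ Zs := ψ' Wr.p with hτ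
  have hτxτ : τ * x * τ = ψ' (Wr.p * Wr.t * Wr.flip Wr.p) * G := by
    rw [hx, hτ, ← mul_assoc, ← map_mul, hGc]
  have hτyτ : τ * y * τ = ψ' (Wr.p * (Wr.t * Wr.p * Wr.q) * Wr.p) := by
    simp only [hy, hτ, map_mul]
  have hfacts : Wr.t * Wr.flip Wr.t = 1 ∧ Wr.t * Wr.p * Wr.q * (Wr.t * Wr.p * Wr.q) = 1 ∧
      Wr.p * Wr.p = 1 ∧
      (Wr.t * Wr.flip (Wr.t * Wr.p * Wr.q) * Wr.flip (Wr.t * Wr.flip (Wr.t * Wr.p * Wr.q))) *
        (Wr.t * Wr.flip (Wr.t * Wr.p * Wr.q) * Wr.flip (Wr.t * Wr.flip (Wr.t * Wr.p * Wr.q))) =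
          Wr.z ∧
      (Wr.t * Wr.flip (Wr.p * Wr.t * Wr.flip Wr.p) =
          Wr.p * Wr.t * Wr.flip Wr.p * Wr.flip Wr.t ∨
        Wr.t * Wr.flip (Wr.p * Wr.t * Wr.flip Wr.p) =
          Wr.p * Wr.t * Wr.flip Wr.p * Wr.flip Wr.t * Wr.z) ∧
      (Wr.t * Wr.flip (Wr.p * (Wr.t * Wr.p * Wr.q) * Wr.p) =
          Wr.p * (Wr.t * Wr.p * Wr.q) * Wr.p * Wr.t ∨
        Wr.t * Wr.flip (Wr.p * (Wr.t * Wr.p * Wr.q) * Wr.p) =
          Wr.p * (Wr.t * Wr.p * Wr.q) * Wr.p * Wr.t * Wr.z) ∧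
      (Wr.t * Wr.p * Wr.q * (Wr.p * Wr.t * Wr.flip Wr.p) =
          Wr.p * Wr.t * Wr.flip Wr.p * Wr.flip (Wr.t * Wr.p * Wr.q) ∨
        Wr.t * Wr.p * Wr.q * (Wr.p * Wr.t * Wr.flip Wr.p) =
          Wr.p * Wr.t * Wr.flip Wr.p * Wr.flip (Wr.t * Wr.p * Wr.q) * Wr.z) ∧
      (Wr.t * Wr.p * Wr.q * (Wr.p * (Wr.t * Wr.p * Wr.q) * Wr.p) =
          Wr.p * (Wr.t * Wr.p * Wr.q) * Wr.p * (Wr.t * Wr.p * Wr.q) ∨
        Wr.t * Wr.p * Wr.q * (Wr.p * (Wr.t * Wr.p * Wr.q) * Wr.p) =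
          Wr.p * (Wr.t * Wr.p * Wr.q) * Wr.p * (Wr.t * Wr.p * Wr.q) * Wr.z) ∧
      (Wr.t * Wr.p * Wr.q) * Wr.p * (Wr.t * Wr.p * Wr.q) = Wr.q ∧
      (Wr.t * Wr.p * Wr.q) * Wr.q * Wr.p = Wr.t ∧ Wr.t * Wr.flip Wr.p * Wr.flip Wr.t = Wr.b ∧
      Wr.t * Wr.b * Wr.t = Wr.a := by
    decide +kernel
  obtain ⟨f1, f2, f3, f4, f5, f6, f7, f8, f9, f10, f11, f12⟩ := hfacts
  have hx2 : x * x = 1 := by rw [hx, hGm, f1, map_one]
  have hy2 : y * y = 1 := by rw [hy, ← map_mul, f2, map_one]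
  have hτ2 : τ * τ = 1 := by rw [hτ, ← map_mul, f3, map_one]
  have h4 : (x * y) ^ 4 = 1 := by
    have h : x * y = ψ' (Wr.t * Wr.flip (Wr.t * Wr.p * Wr.q)) * G := by rw [hx, hy, hGc]
    rw [h, show (4 : ℕ) = 2 + 2 from rfl, pow_add, pow_two, hGm, ← map_mul, f4, hz]
  have hxx : Commute x (τ * x * τ) := by
    show _ = _
    rw [hτxτ, hx, hGm, hGm]
    exact heq _ _ f5
  have hxy : Commute x (τ * y * τ) := by
    show _ = _
    rw [hτyτ, hx, hGc, ← mul_assoc (ψ' _) (ψ' _) G, ← map_mul]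
    exact congrArg (· * G) (heq _ _ f6)
  have hyx : Commute y (τ * x * τ) := by
    show _ = _
    rw [hτxτ, hy, ← mul_assoc (ψ' _) (ψ' _) G, ← map_mul, hGc]
    exact congrArg (· * G) (heq _ _ f7)
  have hyy : Commute y (τ * y * τ) := by
    show _ = _
    rw [hτyτ, hy, ← map_mul, ← map_mul]
    exact heq _ _ f8
  obtain ⟨F, hFx, hFy, hFτ⟩ := exists_wreath_hom hx2 hy2 h4 hτ2 hxx hxy hyx hyy
  -- surjective
  have mp : ψ' Wr.p ∈ F.range := ⟨_, hFτ⟩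
  have mx : x ∈ F.range := ⟨_, hFx⟩
  have my : y ∈ F.range := ⟨_, hFy⟩
  have mq : ψ' Wr.q ∈ F.range := by
    rw [← f9, map_mul, map_mul, ← hy]; exact mul_mem (mul_mem my mp) my
  have mt : ψ' Wr.t ∈ F.range := by
    rw [← f10, map_mul, map_mul, ← hy]; exact mul_mem (mul_mem my mq) mp
  have mb : ψ' Wr.b ∈ F.range := by
    have h : x * ψ' Wr.p * x = ψ' Wr.b := by rw [hx, hGc, hGm, f11]
    rw [← h]; exact mul_mem (mul_mem mx mp) mx
  have ma : ψ' Wr.a ∈ F.range := by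
    rw [← f12, map_mul, map_mul]; exact mul_mem (mul_mem mt mb) mt
  have mG : G ∈ F.range := (Subgroup.mul_mem_cancel_left F.range mt).1 mx
  have mall : ∀ u, ψ' u ∈ F.range :=
    Wr.mem_of_gens (K := F.range.comap ψ') mp ma mq mb mt
  have hsurj : Function.Surjective F := by
    intro v
    obtain ⟨n, rfl⟩ := QuotientGroup.mk'_surjective Zs v
    show π n ∈ F.range
    by_cases hn : (n : S) ∈ ψ.range
    · obtain ⟨u, hu⟩ := hn
      have : n = ψ.codRestrict Nn (fun u => hPN ⟨u, rfl⟩) u := Subtype.ext hu.symm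
      rw [this]; exact mall u
    · obtain ⟨u, hu⟩ := (hiff n ⟨g, hg⟩).2 ⟨fun h => absurd h hn, fun h => absurd h hgP⟩
      have : π (n * ⟨g, hg⟩) = ψ' u := congrArg π (Subtype.ext hu.symm)
      rw [map_mul] at this
      rw [show π n = π n * G * G⁻¹ by group, this]
      exact mul_mem (mall u) (inv_mem mG)
  -- bijective by counting
  have hZN : center S ≤ Nn := fun c hc =>
    centralizer_le_normalizer _ (mem_centralizer_iff.2 fun v _ => mem_center_iff.1 hc v)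
  have hcN : Nat.card Nn = 256 := by
    have h := (ψ.range.subgroupOf Nn).card_mul_index
    rw [show (ψ.range.subgroupOf Nn).index = 2 from hidx,
      Nat.card_congr (subgroupOfEquivOfLe hPN).toEquiv,
      ← Nat.card_congr (MonoidHom.ofInjective hψ).toEquiv, Wr.nat_card] at h
    omega
  have hcZ : Nat.card Zs = 2 := by
    rw [Nat.card_congr (subgroupOfEquivOfLe hZN).toEquiv, center_eq_zpowers h2 hr hψ,
      Nat.card_zpowers]
    exact orderOf_eq_prime (by rw [pow_two, ← map_mul, Wr.z_ne.2, map_one])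
      fun h => Wr.z_ne.1 (hψ (h.trans (map_one ψ).symm))
  have hcQ : Nat.card (Nn ⧸ Zs) = 128 := by
    have h := Subgroup.card_eq_card_quotient_mul_card_subgroup Zs
    rw [hcN, hcZ] at h
    omega
  exact ⟨(MulEquiv.ofBijective F ((Nat.bijective_iff_surjective_and_card F).2
    ⟨hsurj, by rw [hcQ, Wr.nat_card]⟩)).symm⟩

end Cfsg.Agent.PGroups.WreathD8
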